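import Mathlib
import Groth.Prelude.Def_W4stkflatp2Cpct

set_option autoImplicit false

universe u

open CategoryTheory CategoryTheory.Limits AlgebraicGeometry

namespace Groth.Agent.Cpct15

variable {S : Scheme.{u}}

theorem restr_ι {A B : Cpct.Pair S} (f : A ⟶ B) :
    Cpct.restr f ≫ B.U.ι = A.U.ι ≫ (Cpct.Pair.Hom.bar f).left :=
  Scheme.Hom.resLE_comp_ι _ _

theorem restr_comp {A B C : Cpct.Pair S} (f : A ⟶ B) (g : B ⟶ C) :
    Cpct.restr (f ≫ g) = Cpct.restr f ≫ Cpct.restr g := by
  rw [← cancel_mono C.U.ι, restr_ι, Category.assoc, restr_ι, ← Category.assoc, restr_ι, Category.assoc,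
    Cpct.Pair.comp_bar, Over.comp_left]

theorem restr_id (A : Cpct.Pair S) : Cpct.restr (𝟙 A) = 𝟙 _ := by
  rw [← cancel_mono A.U.ι, restr_ι, Cpct.Pair.id_bar, Over.id_left, Category.comp_id, Category.id_comp]

instance isMultiplicative : (Cpct.isoOpen S).IsMultiplicative where
  id_mem A := by
    show IsIso (Cpct.restr (𝟙 A))
    rw [restr_id]
    infer_instance
  comp_mem f g hf hg := by
    show IsIso (Cpct.restr (f ≫ g))
    haveI : IsIso (Cpct.restr f) := hf
    haveI : IsIso (Cpct.restr g) := hg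
    rw [restr_comp]
    infer_instance

theorem isIso_restr_of_comp {A B C : Cpct.Pair S} (f : A ⟶ B) (g : B ⟶ C)
    (h : Cpct.isoOpen S (f ≫ g)) (hg : Cpct.isoOpen S g) : Cpct.isoOpen S f := by
  haveI : IsIso (Cpct.restr g) := hg
  haveI : IsIso (Cpct.restr f ≫ Cpct.restr g) := restr_comp f g ▸ h
  exact IsIso.of_isIso_comp_right (Cpct.restr f) (Cpct.restr g)

/-- Graph trick: an `S`-morphism from the open part of a compactification into a proper `S`-scheme
extends after modifying the compactification. -/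
theorem exists_extend [QuasiSeparatedSpace S] (A : Cpct.Pair S) (B : Over S) [IsProper B.hom]
    (g : (A.U : Scheme.{u}) ⟶ B.left) (hg : g ≫ B.hom = A.U.ι ≫ A.bar.hom) :
    ∃ (A' : Cpct.Pair S) (v : A' ⟶ A) (_ : Cpct.isoOpen S v) (w : A'.bar ⟶ B),
      Cpct.restr v ≫ g = A'.U.ι ≫ w.left := by
  haveI := A.isProper
  let Z := pullback A.bar.hom B.hom
  let p : Z ⟶ A.bar.left := pullback.fst A.bar.hom B.hom
  let h : (A.U : Scheme.{u}) ⟶ Z := pullback.lift A.U.ι g hg.symm
  have hp : h ≫ p = A.U.ι := pullback.lift_fst _ _ _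
  haveI : QuasiSeparatedSpace A.bar.left := quasiSeparatedSpace_of_quasiSeparated A.bar.hom
  haveI : CompactSpace (A.U : Scheme.{u}) := isCompact_iff_compactSpace.1 A.isCompact
  haveI : QuasiSeparatedSpace Z := quasiSeparatedSpace_of_quasiSeparated p
  haveI : QuasiCompact h := inferInstance
  haveI : IsImmersion (h ≫ p) := hp ▸ inferInstance
  haveI : IsImmersion h := IsImmersion.of_comp h p
  haveI : IsProper (h.imageι ≫ p ≫ A.bar.hom) := inferInstance
  let A' : Cpct.Pair S :=
    { bar := Over.mk (h.imageι ≫ p ≫ A.bar.hom)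
      U := h.toImage.opensRange
      isProper := by simp only [Over.mk_hom]; infer_instance
      isCompact := isCompact_range h.toImage.continuous }
  have hfac : h.toImage ≫ h.imageι ≫ p = A.U.ι := by rw [Scheme.Hom.toImage_imageι_assoc, hp]
  let v : A' ⟶ A := ⟨Over.homMk (h.imageι ≫ p) (by simp [A', Z, p]), by
    rintro x ⟨y, rfl⟩
    show (h.imageι ≫ p).base (h.toImage.base y) ∈ A.U
    rw [← Scheme.Hom.comp_apply, hfac]
    exact y.2⟩
  let w : A'.bar ⟶ B := Over.homMk (h.imageι ≫ pullback.snd A.bar.hom B.hom) (by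
    simp [A', Z, p, pullback.condition])
  let e : (A.U : Scheme.{u}) ≅ (A'.U : Scheme.{u}) := h.toImage.isoOpensRange
  have he : e.hom ≫ A'.U.ι = h.toImage := Scheme.Hom.isoOpensRange_hom_ι _
  have hv : e.hom ≫ Cpct.restr v = 𝟙 _ := by
    rw [← cancel_mono A.U.ι, Category.assoc, restr_ι, ← Category.assoc, he, Category.id_comp]
    exact hfac
  have hv' : Cpct.restr v = e.inv := by
    rw [← Category.id_comp (Cpct.restr v), ← e.inv_hom_id, Category.assoc, hv, Category.comp_id]
  refine ⟨A', v, ?_, w, ?_⟩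
  · show IsIso (Cpct.restr v)
    rw [hv']
    infer_instance
  · rw [← cancel_epi e.hom, ← Category.assoc, hv, Category.id_comp, ← Category.assoc, he]
    show g = h.toImage ≫ h.imageι ≫ pullback.snd A.bar.hom B.hom
    rw [Scheme.Hom.toImage_imageι_assoc, pullback.lift_snd]

/-- Two morphisms of compactifications with the same open part agree after a modification. -/
theorem exists_eq [QuasiSeparatedSpace S] {A B : Cpct.Pair S} (f₁ f₂ : A ⟶ B)
    (h : Cpct.restr f₁ = Cpct.restr f₂) :
    ∃ (A' : Cpct.Pair S) (t : A' ⟶ A) (_ : Cpct.isoOpen S t), t ≫ f₁ = t ≫ f₂ := by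
  haveI := A.isProper
  haveI := B.isProper
  let a := (Cpct.Pair.Hom.bar f₁).left
  let b := (Cpct.Pair.Hom.bar f₂).left
  let i := equalizer.ι (Over.homMk (U := A.bar) (V := B.bar) a (Over.w _)) (Over.homMk (U := A.bar) (V := B.bar) b (Over.w _))
  haveI : IsClosedImmersion i.left := inferInstance
  let E := equalizer (Over.homMk (U := A.bar) (V := B.bar) a (Over.w _)) (Over.homMk (U := A.bar) (V := B.bar) b (Over.w _))
  have hE : IsProper E.hom := by
    rw [← Over.w i]
    infer_instance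
  let A' : Cpct.Pair S := ⟨E, i.left ⁻¹ᵁ A.U, hE, QuasiCompact.isCompact_preimage _ A.U.2 A.isCompact⟩
  let t : A' ⟶ A := ⟨i, fun x hx => hx⟩
  refine ⟨A', t, ?_, ?_⟩
  · show IsIso (Cpct.restr t)
    let j : Over.mk (A.U.ι ≫ A.bar.hom) ⟶ E := equalizer.lift (Over.homMk A.U.ι) (by
      ext1
      simp only [Over.comp_left, Over.homMk_left, a, b]
      rw [← restr_ι, ← restr_ι, h])
    have hj : j.left ≫ i.left = A.U.ι := by
      rw [← Over.comp_left]
      simp [j, i, E]
    haveI : Mono (Cpct.restr t) := by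
      haveI : Mono (Cpct.restr t ≫ A.U.ι) := by rw [restr_ι]; infer_instance
      exact mono_of_mono (Cpct.restr t) A.U.ι
    have hr : Set.range j.left.base ⊆ Set.range A'.U.ι.base := by
      rw [Scheme.Opens.range_ι]
      rintro _ ⟨y, rfl⟩
      show i.left.base (j.left.base y) ∈ A.U
      rw [← Scheme.Hom.comp_apply, hj]
      exact y.2
    let l : (A.U : Scheme.{u}) ⟶ (A'.U : Scheme.{u}) := IsOpenImmersion.lift A'.U.ι j.left hr
    haveI : IsSplitEpi (Cpct.restr t) := IsSplitEpi.mk' ⟨l, by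
      rw [← cancel_mono A.U.ι, Category.assoc, restr_ι, ← Category.assoc, IsOpenImmersion.lift_fac, Category.id_comp]
      exact hj⟩
    exact isIso_of_mono_of_isSplitEpi _
  · refine Cpct.Pair.Hom.ext ?_
    ext1
    exact congrArg CommaMorphism.left (equalizer.condition (Over.homMk (U := A.bar) (V := B.bar) a (Over.w _)) (Over.homMk (U := A.bar) (V := B.bar) b (Over.w _)))

theorem hasRightCalculusOfFractions [QuasiSeparatedSpace S] :
    (Cpct.isoOpen S).HasRightCalculusOfFractions where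
  exists_rightFraction X Y φ := by
    haveI := Y.isProper
    haveI : IsIso (Cpct.restr φ.s) := φ.hs
    haveI : IsProper φ.Y'.bar.hom := φ.Y'.isProper
    obtain ⟨A', v, hv, w, hw⟩ := exists_extend X Y.bar (Cpct.restr φ.f ≫ inv (Cpct.restr φ.s) ≫ Y.U.ι) (by
      have : inv (Cpct.restr φ.s) ≫ Y.U.ι ≫ Y.bar.hom = φ.Y'.U.ι ≫ φ.Y'.bar.hom := by
        rw [IsIso.inv_comp_eq, ← Category.assoc, restr_ι, Category.assoc, Over.w]
      rw [Category.assoc, Category.assoc, this, ← Category.assoc, restr_ι, Category.assoc, Over.w])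
    have hwle : ∀ x, x ∈ A'.U → w.left.base x ∈ Y.U := by
      intro x hx
      have := congrArg (fun k => k.base ⟨x, hx⟩) hw
      simp only [Scheme.Hom.comp_apply] at this
      rw [show w.left.base x = _ from this.symm]
      exact ((inv (Cpct.restr φ.s)).base ((Cpct.restr φ.f).base ((Cpct.restr v).base ⟨x, hx⟩))).2
    let w' : A' ⟶ Y := ⟨w, hwle⟩
    have hkey : Cpct.restr (v ≫ φ.f) = Cpct.restr (w' ≫ φ.s) := by
      have : Cpct.restr w' = Cpct.restr v ≫ Cpct.restr φ.f ≫ inv (Cpct.restr φ.s) := by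
        rw [← cancel_mono Y.U.ι, restr_ι]
        simpa using hw.symm
      rw [restr_comp, restr_comp, this]
      simp
    obtain ⟨A'', t, ht, heq⟩ := exists_eq (v ≫ φ.f) (w' ≫ φ.s) hkey
    exact ⟨⟨t ≫ v, (Cpct.isoOpen S).comp_mem _ _ ht hv, t ≫ w'⟩, by simpa using heq⟩
  ext X Y Y' f₁ f₂ s hs h := by
    haveI : IsIso (Cpct.restr s) := hs
    refine exists_eq f₁ f₂ ?_
    rw [← cancel_mono (Cpct.restr s), ← restr_comp, ← restr_comp, h]

end Groth.Agent.Cpct15
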